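import Groth.Agent.Lib.Unram.BaseChangeNhd
import Groth.Agent.Lib.SourceDescent.Scheme

/-!
# The étale locus and its invariance under a common étale cover of two flat base changes
-/

set_option autoImplicit false
set_option backward.isDefEq.respectTransparency false
set_option backward.isDefEq.respectTransparency.types false

universe u

open CategoryTheory CategoryTheory.Limits AlgebraicGeometry

namespace Groth.Agent.Lib.Slicing.Locus

/-- `f` is étale near `x`. -/
def EtaleNear {X Y : Scheme.{u}} (f : X ⟶ Y) (x : X) : Prop :=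
  ∃ O : X.Opens, x ∈ O ∧ Etale (O.ι ≫ f)

variable {X Y Z : Scheme.{u}}

theorem etaleNear_of_range {W : Scheme.{u}} (j : W ⟶ X) [Etale j] (f : X ⟶ Y) [Etale (j ≫ f)]
    (w : W) : EtaleNear f (j w) := by
  let O : X.Opens := ⟨Set.range j, j.isOpenMap.isOpen_range⟩
  refine ⟨O, ⟨w, rfl⟩, ?_⟩
  let j' : W ⟶ O.toScheme := IsOpenImmersion.lift O.ι j (by simp [O])
  have hj : j' ≫ O.ι = j := IsOpenImmersion.lift_fac _ _ _
  have : Etale (j' ≫ O.ι) := by rw [hj]; infer_instance
  have : Etale j' := Etale.of_comp j' O.ι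
  have : Surjective j' := ⟨fun ⟨z, a, ha⟩ => ⟨a, O.ι.isOpenEmbedding.injective (by
    rw [← Scheme.Hom.comp_apply, hj]; exact ha)⟩⟩
  refine SourceDescent.Scheme.etale.descends j' _ inferInstance inferInstance ?_
  rw [← Category.assoc, hj]
  infer_instance

theorem etaleNear_precomp_iff {W : Scheme.{u}} (e : W ⟶ X) [Etale e] (f : X ⟶ Y) (w : W) :
    EtaleNear (e ≫ f) w ↔ EtaleNear f (e w) := by
  refine ⟨fun ⟨O, hw, hO⟩ => ?_, fun ⟨O, hw, hO⟩ => ⟨e ⁻¹ᵁ O, hw, ?_⟩⟩
  · have : Etale ((O.ι ≫ e) ≫ f) := by rw [Category.assoc]; exact hO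
    exact etaleNear_of_range (O.ι ≫ e) f ⟨w, hw⟩
  · rw [← Category.assoc, ← morphismRestrict_ι, Category.assoc]
    have : Etale (e ∣_ O) := IsZariskiLocalAtTarget.restrict (P := @Etale) ‹_› O
    infer_instance

theorem isOpen_etaleNear (f : X ⟶ Y) : IsOpen {x : X | EtaleNear f x} :=
  isOpen_iff_mem_nhds.2 fun _ ⟨O, hx, hO⟩ =>
    Filter.mem_of_superset (O.isOpen.mem_nhds hx) fun _ hy => ⟨O, hy, hO⟩

theorem etale_of_forall_etaleNear (f : X ⟶ Y) (h : ∀ x, EtaleNear f x) : Etale f := by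
  choose O hx hO using h
  exact IsZariskiLocalAtSource.of_iSup_eq_top (P := @Etale) O
    (eq_top_iff.2 fun x _ => TopologicalSpace.Opens.mem_iSup.2 ⟨x, hx x⟩) hO

theorem etaleNear_baseChange {X' Y' : Scheme.{u}} {g : X' ⟶ X} {f' : X' ⟶ Y'} {f : X ⟶ Y}
    {h : Y' ⟶ Y} (sq : IsPullback g f' f h) {x : X'} (hx : EtaleNear f (g x)) : EtaleNear f' x := by
  obtain ⟨O, hx, hO⟩ := hx
  refine ⟨g ⁻¹ᵁ O, hx, ?_⟩
  exact MorphismProperty.of_isPullback (P := @Etale)
    ((isPullback_morphismRestrict g O).paste_vert sq) hO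

theorem etaleNear_descend {X' Y' : Scheme.{u}} {g : X' ⟶ X} {f' : X' ⟶ Y'} {f : X ⟶ Y}
    {h : Y' ⟶ Y} [LocallyOfFinitePresentation f] [Flat h] (sq : IsPullback g f' f h) {x : X'}
    (hx : EtaleNear f' x) : EtaleNear f (g x) := by
  let e := sq.isoPullback
  have he : EtaleNear (pullback.snd f h) (e.hom x) := by
    rw [← etaleNear_precomp_iff e.hom, sq.isoPullback_hom_snd]
    exact hx
  have := Unram.BaseChangeNhd.exists_nhd_descend_of_flat @Etale
    (fun i _ => inferInstance) Unram.BaseChangeNhd.etale_at_descend_ring f h (e.hom x) he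
  rwa [← Scheme.Hom.comp_apply, sq.isoPullback_hom_fst] at this

theorem isPullback_map {U Q : Scheme.{u}} (σ : Q ⟶ U) (P : Scheme.{u}) :
    IsPullback (pullback.map (terminal.from Q) (terminal.from P) (terminal.from U) (terminal.from P) σ (𝟙 P) (𝟙 _)
        (terminal.hom_ext _ _) (terminal.hom_ext _ _))
      (pullback.fst (terminal.from Q) (terminal.from P)) (pullback.fst (terminal.from U) (terminal.from P)) σ := by
  refine IsPullback.of_right ?_ (pullback.lift_fst _ _ _)
    (IsPullback.of_hasPullback (terminal.from U) (terminal.from P)).flip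
  convert (IsPullback.of_hasPullback (terminal.from Q) (terminal.from P)).flip using 1
  · simp [pullback.map]
  · exact terminal.hom_ext _ _

/-- The base change of a map `(s, G)` to a product with `P` over the terminal scheme. -/
theorem isPullback_lift {U Q R X P : Scheme.{u}} {σ : Q ⟶ U} {s : R ⟶ U} {c : X ⟶ Q} {g : X ⟶ R}
    (sq : IsPullback c g σ s) (G : R ⟶ P) :
    IsPullback g (pullback.lift (f := terminal.from Q) (g := terminal.from P) c (g ≫ G) (terminal.hom_ext _ _))
      (pullback.lift (f := terminal.from U) (g := terminal.from P) s G (terminal.hom_ext _ _))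
      (pullback.map (terminal.from Q) (terminal.from P) (terminal.from U) (terminal.from P) σ (𝟙 P) (𝟙 _)
        (terminal.hom_ext _ _) (terminal.hom_ext _ _)) := by
  refine IsPullback.of_bot ?_ ?_ (isPullback_map σ P)
  · simpa using sq.flip
  · apply pullback.hom_ext <;> simp [sq.w]

/-- The étale locus of `(s, G)` is invariant under a common étale cover of two flat base changes. -/
theorem etaleNear_transfer {U Q R P X₁ X₂ W : Scheme.{u}} {s : R ⟶ U} {G : R ⟶ P}
    [LocallyOfFinitePresentation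
      (pullback.lift (f := terminal.from U) (g := terminal.from P) s G (terminal.hom_ext _ _))]
    {σ₁ σ₂ : Q ⟶ U} [Flat σ₂] {c₁ : X₁ ⟶ Q} {g₁ : X₁ ⟶ R} {c₂ : X₂ ⟶ Q} {g₂ : X₂ ⟶ R}
    (sq₁ : IsPullback c₁ g₁ σ₁ s) (sq₂ : IsPullback c₂ g₂ σ₂ s)
    (e₁ : W ⟶ X₁) (e₂ : W ⟶ X₂) [Etale e₁] [Etale e₂] (hc : e₁ ≫ c₁ = e₂ ≫ c₂)
    (hG : e₁ ≫ g₁ ≫ G = e₂ ≫ g₂ ≫ G) (w : W)
    (h : EtaleNear (pullback.lift (f := terminal.from U) (g := terminal.from P) s G (terminal.hom_ext _ _))
      (g₁ (e₁ w))) :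
    EtaleNear (pullback.lift (f := terminal.from U) (g := terminal.from P) s G (terminal.hom_ext _ _))
      (g₂ (e₂ w)) := by
  have : Flat (pullback.map (terminal.from Q) (terminal.from P) (terminal.from U) (terminal.from P) σ₂
      (𝟙 P) (𝟙 _) (terminal.hom_ext _ _) (terminal.hom_ext _ _)) :=
    MorphismProperty.of_isPullback (P := @Flat) (isPullback_map σ₂ P).flip inferInstance
  have h1 := (etaleNear_precomp_iff e₁ _ w).2 (etaleNear_baseChange (isPullback_lift sq₁ G) h)
  refine etaleNear_descend (isPullback_lift sq₂ G) ((etaleNear_precomp_iff e₂ _ w).1 ?_)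
  convert h1 using 1
  apply pullback.hom_ext <;> simp [hc, hG]

end Groth.Agent.Lib.Slicing.Locus
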