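import Groth.Agent.Lib.Slicing.Alg
import Mathlib.AlgebraicGeometry.AffineSpace
import Mathlib.AlgebraicGeometry.Morphisms.Smooth
import Mathlib.AlgebraicGeometry.Morphisms.Etale
import Mathlib.AlgebraicGeometry.Morphisms.FormallyUnramified

/-!
# Étale coordinates on the source of a smooth map pulled back through a second map
-/

set_option autoImplicit false
set_option backward.isDefEq.respectTransparency false
set_option backward.isDefEq.respectTransparency.types false

universe u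

open CategoryTheory CategoryTheory.Limits AlgebraicGeometry TensorProduct

namespace Groth.Agent.Lib.Slicing.Coords

/-- If `s` is smooth and `(s, t)` is formally unramified, then near a point where `s` and `t` agree
the map `(s, F ∘ t)` to an affine space is étale for suitable functions `F`. -/
theorem exists_coords {R' U S : Scheme.{u}} (π : U ⟶ S) (s t : R' ⟶ U) (h : s ≫ π = t ≫ π)
    [Smooth s] (hu : FormallyUnramified (pullback.lift s t h)) (r : R') (hr : s r = t r) :
    ∃ (κ : Type u) (_ : Finite κ) (V : U.Opens)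
      (F : V.toScheme ⟶ Spec (CommRingCat.of (MvPolynomial κ (ULift.{u} ℤ))))
      (W : Scheme.{u}) (i : W ⟶ R') (tV : W ⟶ V.toScheme),
      s r ∈ V ∧ IsOpenImmersion i ∧ r ∈ Set.range i ∧ tV ≫ V.ι = i ≫ t ∧
      Etale (pullback.lift (i ≫ s) (tV ≫ F) (terminal.hom_ext _ _) : W ⟶ AffineSpace κ U) := by
  obtain ⟨A₀, hA₀, hmA, -⟩ := exists_isAffineOpen_mem_and_subset (x := π (s r)) (U := (⊤ : S.Opens))
    trivial
  obtain ⟨V, hV, hmV, hVA⟩ := exists_isAffineOpen_mem_and_subset (x := s r) (U := π ⁻¹ᵁ A₀) hmA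
  obtain ⟨W₀, hW₀, hmW, hWV⟩ := exists_isAffineOpen_mem_and_subset (x := r)
    (U := s ⁻¹ᵁ V ⊓ t ⁻¹ᵁ V) (show r ∈ s ⁻¹ᵁ V ⊓ t ⁻¹ᵁ V from ⟨hmV, show t r ∈ V from hr ▸ hmV⟩)
  have hWs : W₀ ≤ s ⁻¹ᵁ V := fun x hx => (hWV hx).1
  have hWt : W₀ ≤ t ⁻¹ᵁ V := fun x hx => (hWV hx).2
  have hVA' : V ≤ π ⁻¹ᵁ A₀ := hVA
  let φπ := π.appLE A₀ V hVA'
  let φs := s.appLE V W₀ hWs
  let φt := t.appLE V W₀ hWt
  have hst : φπ ≫ φs = φπ ≫ φt := by
    simp only [φπ, φs, φt, Scheme.Hom.appLE_comp_appLE]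
    congr 1
  let _ : Algebra Γ(S, A₀) Γ(U, V) := φπ.hom.toAlgebra
  let _ : Algebra Γ(U, V) Γ(R', W₀) := φs.hom.toAlgebra
  let σ : Γ(U, V) ⊗[Γ(S, A₀)] Γ(U, V) →+* Γ(R', W₀) :=
    letI : Algebra Γ(S, A₀) Γ(R', W₀) := (φπ ≫ φs).hom.toAlgebra
    (Algebra.TensorProduct.lift (A := Γ(U, V)) (B := Γ(U, V)) (C := Γ(R', W₀))
      ({ φs.hom with commutes' := fun _ => rfl } : Γ(U, V) →ₐ[Γ(S, A₀)] Γ(R', W₀))
      ({ φt.hom with commutes' := fun a => (RingHom.congr_fun (congrArg CommRingCat.Hom.hom hst) a).symm } :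
        Γ(U, V) →ₐ[Γ(S, A₀)] Γ(R', W₀)) fun _ _ => Commute.all _ _).toRingHom
  have hσl : σ.comp Algebra.TensorProduct.includeLeftRingHom = φs.hom := RingHom.ext fun b => by
    simp [σ]
  have hσr : σ.comp (Algebra.TensorProduct.includeRight (R := Γ(S, A₀)) (A := Γ(U, V))
      (B := Γ(U, V))).toRingHom = φt.hom := RingHom.ext fun b => by simp [σ]
  let _ : Algebra (Γ(U, V) ⊗[Γ(S, A₀)] Γ(U, V)) Γ(R', W₀) := σ.toAlgebra
  have : IsScalarTower Γ(U, V) (Γ(U, V) ⊗[Γ(S, A₀)] Γ(U, V)) Γ(R', W₀) :=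
    IsScalarTower.of_algebraMap_eq fun b => (RingHom.congr_fun hσl b).symm
  have : Algebra.Smooth Γ(U, V) Γ(R', W₀) :=
    RingHom.smooth_algebraMap.1 (HasRingHomProperty.appLE (P := @Smooth) s inferInstance ⟨V, hV⟩ ⟨W₀, hW₀⟩ hWs)
  have hgen : Algebra.adjoin Γ(U, V) (Set.range fun b : Γ(U, V) => (1 : Γ(U, V)) ⊗ₜ[Γ(S, A₀)] b) = ⊤ := by
    rw [eq_top_iff]
    intro x hx'
    clear hx'
    induction x with
    | zero => exact zero_mem _
    | add x y hx hy => exact add_mem hx hy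
    | tmul a b =>
      have : a ⊗ₜ[Γ(S, A₀)] b = algebraMap Γ(U, V) (Γ(U, V) ⊗[Γ(S, A₀)] Γ(U, V)) a * (1 ⊗ₜ b) := by
        simp [Algebra.TensorProduct.algebraMap_apply]
      rw [this]
      exact mul_mem (Subalgebra.algebraMap_mem _ _) (Algebra.subset_adjoin ⟨b, rfl⟩)
  have hfu : Algebra.FormallyUnramified (Γ(U, V) ⊗[Γ(S, A₀)] Γ(U, V)) Γ(R', W₀) := by
    have hA : Spec.map (CommRingCat.ofHom (algebraMap Γ(S, A₀) Γ(U, V))) ≫ hA₀.fromSpec =
        hV.fromSpec ≫ π := IsAffineOpen.SpecMap_appLE_fromSpec π hA₀ hV hVA'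
    let c := (pullbackSpecIso Γ(S, A₀) Γ(U, V) Γ(U, V)).inv ≫
      pullback.map _ _ π π hV.fromSpec hV.fromSpec hA₀.fromSpec hA hA
    have e : Spec.map (CommRingCat.ofHom σ) ≫ c = hW₀.fromSpec ≫ pullback.lift s t h := by
      apply pullback.hom_ext
      · simp only [c, Category.assoc, pullback.lift_fst, pullback.lift_fst_assoc,
          pullbackSpecIso_inv_fst_assoc, ← Spec.map_comp_assoc, ← CommRingCat.ofHom_comp, hσl]
        exact IsAffineOpen.SpecMap_appLE_fromSpec s hV hW₀ hWs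
      · simp only [c, Category.assoc, pullback.lift_snd, pullback.lift_snd_assoc,
          pullbackSpecIso_inv_snd_assoc, ← Spec.map_comp_assoc, ← CommRingCat.ofHom_comp]
        erw [hσr]
        exact IsAffineOpen.SpecMap_appLE_fromSpec t hV hW₀ hWt
    have : FormallyUnramified (Spec.map (CommRingCat.ofHom σ) ≫ c) := by
      rw [e]
      have : IsOpenImmersion hW₀.fromSpec := inferInstance
      have := hu
      exact (HasRingHomProperty.instIsZariskiLocalAtSource (P := @FormallyUnramified)).comp hu hW₀.fromSpec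
    have := FormallyUnramified.of_comp (Spec.map (CommRingCat.ofHom σ)) c
    exact RingHom.formallyUnramified_algebraMap.1 ((HasRingHomProperty.Spec_iff (P := @FormallyUnramified)).1 this)
  obtain ⟨κ, hκ, a, f, hf, het⟩ := Alg.exists_etale_coords (B := Γ(U, V))
    (A := Γ(U, V) ⊗[Γ(S, A₀)] Γ(U, V)) (C := Γ(R', W₀)) (fun b : Γ(U, V) => 1 ⊗ₜ b) hgen
    (hW₀.primeIdealOf ⟨r, hmW⟩).asIdeal
  let G : CommRingCat.of (MvPolynomial κ (ULift.{u} ℤ)) ⟶ Γ(U, V) := CommRingCat.ofHom
    (MvPolynomial.eval₂Hom ((algebraMap ℤ Γ(U, V)).comp ULift.ringEquiv.toRingHom) a)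
  let θ : CommRingCat.of (MvPolynomial κ Γ(U, V)) ⟶ CommRingCat.of (Localization.Away f) :=
    CommRingCat.ofHom ((algebraMap Γ(R', W₀) (Localization.Away f)).comp
      (MvPolynomial.aeval (R := Γ(U, V)) fun i => σ (1 ⊗ₜ a i)).toRingHom)
  have : Etale (Spec.map θ) := (HasRingHomProperty.Spec_iff (P := @Etale)).2 het
  let l : Γ(R', W₀) ⟶ CommRingCat.of (Localization.Away f) :=
    CommRingCat.ofHom (algebraMap Γ(R', W₀) (Localization.Away f))
  have hli : IsOpenImmersion (Spec.map l) := IsOpenImmersion.of_isLocalization f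
  let i := Spec.map l ≫ hW₀.fromSpec
  let tV := Spec.map (φt ≫ l) ≫ hV.isoSpec.inv
  have htV : tV ≫ V.ι = i ≫ t := by
    simp only [tV, i, Category.assoc, IsAffineOpen.isoSpec_inv_ι, Spec.map_comp]
    exact congrArg (Spec.map l ≫ ·) (IsAffineOpen.SpecMap_appLE_fromSpec t hV hW₀ hWt)
  have : IsOpenImmersion (AffineSpace.map κ hV.fromSpec) :=
    MorphismProperty.of_isPullback (P := @IsOpenImmersion) (AffineSpace.isPullback_map hV.fromSpec).flip
      inferInstance
  refine ⟨κ, hκ, V, hV.isoSpec.hom ≫ Spec.map G, _, i, tV, hmV, inferInstance, ?_, htV, ?_⟩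
  · obtain ⟨x, hx⟩ : hW₀.primeIdealOf ⟨r, hmW⟩ ∈ Set.range (Spec.map l) := by
      rw [show Set.range (Spec.map l) = _ from PrimeSpectrum.localization_away_comap_range (Localization.Away f) f]
      exact hf
    refine ⟨x, ?_⟩
    simp only [i, Scheme.Hom.comp_apply, hx]
    exact hW₀.fromSpec_primeIdealOf ⟨r, hmW⟩
  · have e : Spec.map θ ≫ (AffineSpace.SpecIso κ Γ(U, V)).inv ≫ AffineSpace.map κ hV.fromSpec =
        pullback.lift (i ≫ s) (tV ≫ hV.isoSpec.hom ≫ Spec.map G) (terminal.hom_ext _ _) := by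
      refine AffineSpace.hom_ext ?_ fun j => ?_
      · simp only [Category.assoc, AffineSpace.map_over, AffineSpace.SpecIso_inv_over_assoc]
        rw [← Spec.map_comp_assoc]
        refine Eq.trans ?_ (pullback.lift_fst _ _ _).symm
        have : CommRingCat.ofHom (MvPolynomial.C (σ := κ)) ≫ θ = φs ≫ l :=
          CommRingCat.hom_ext (RingHom.ext fun b =>
            congrArg (algebraMap Γ(R', W₀) (Localization.Away f)) (MvPolynomial.aeval_C _ b))
        rw [this, Spec.map_comp, Category.assoc, IsAffineOpen.SpecMap_appLE_fromSpec s hV hW₀ hWs,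
          ← Category.assoc]
      · simp only [Scheme.Hom.comp_appTop, CommRingCat.comp_apply, AffineSpace.map_appTop_coord,
          AffineSpace.SpecIso_inv_appTop_coord]
        rw [← CommRingCat.comp_apply, ← Scheme.ΓSpecIso_inv_naturality, CommRingCat.comp_apply]
        rw [AffineSpace.coord, ← AffineSpace.toSpecMvPolyIntEquiv_comp]
        have h2 : (pullback.lift (i ≫ s) (tV ≫ hV.isoSpec.hom ≫ Spec.map G) (terminal.hom_ext _ _) ≫
            AffineSpace.toSpecMvPoly κ U) = Spec.map (G ≫ φt ≫ l) := by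
          refine (pullback.lift_snd _ _ _).trans ?_
          simp only [tV, Category.assoc, Iso.inv_hom_id_assoc, Spec.map_comp]
        refine Eq.trans ?_ (congrArg (fun g => AffineSpace.toSpecMvPolyIntEquiv κ g j) h2).symm
        change _ = (Spec.map (G ≫ φt ≫ l)).appTop ((Scheme.ΓSpecIso _).inv (.X j))
        conv_rhs => rw [← CommRingCat.comp_apply, ← Scheme.ΓSpecIso_inv_naturality, CommRingCat.comp_apply]
        rw [CommRingCat.comp_apply]
        congr 1
        change algebraMap Γ(R', W₀) (Localization.Away f) (MvPolynomial.aeval _ (MvPolynomial.X j)) =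
          algebraMap Γ(R', W₀) (Localization.Away f) (φt (MvPolynomial.eval₂ _ a (MvPolynomial.X j)))
        rw [MvPolynomial.aeval_X, MvPolynomial.eval₂_X]
        exact congrArg _ (RingHom.congr_fun hσr (a j))
    rw [← e]
    infer_instance

end Groth.Agent.Lib.Slicing.Coords
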