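import Groth.Agent.Lib.EtaleSection.Alg
import Mathlib.AlgebraicGeometry.AffineSpace
import Mathlib.AlgebraicGeometry.Morphisms.Etale
import Mathlib.FieldTheory.IsAlgClosed.AlgebraicClosure
import Mathlib.RingTheory.Etale.StandardEtale
import Mathlib.FieldTheory.PrimitiveElement
import Mathlib.FieldTheory.IsSepClosed
import Mathlib.FieldTheory.SeparableClosure
import Mathlib.FieldTheory.Perfect
import Mathlib.Algebra.MvPolynomial.Funext
import Mathlib.RingTheory.LocalRing.ResidueField.Ideal
import Mathlib.RingTheory.Polynomial.ScaleRoots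

/-!
# Points with coordinates in étale algebras in open subsets of affine space
-/

set_option autoImplicit false

universe u

open CategoryTheory Limits AlgebraicGeometry Polynomial

namespace Groth.Agent.Lib.Slicing.Rational

variable {A : Type u} [CommRing A] (p : Ideal A) [p.IsPrime]

open Groth.Agent.Lib.EtaleSection.Alg (exists_denom infinite_of_isSepClosed)

/-- Finitely many elements of a separable closure of a residue field lift to a standard étale algebra. -/
theorem exists_etale_lift {n : Type u} [Finite n] (a : n → SeparableClosure p.ResidueField) :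
    ∃ (P : StandardEtalePair A) (φ : P.Ring →ₐ[A] SeparableClosure p.ResidueField) (b : n → P.Ring),
      ∀ i, φ (b i) = a i := by
  classical
  let _ := Fintype.ofFinite n
  let κ := p.ResidueField
  let K := SeparableClosure κ
  have hker : ∀ a : A, algebraMap A K a = 0 ↔ a ∈ p := fun a => by
    rw [IsScalarTower.algebraMap_apply A κ K, map_eq_zero, Ideal.algebraMap_residueField_eq_zero]
  let L := IntermediateField.adjoin κ (Set.range a)
  have : FiniteDimensional κ L :=
    IntermediateField.finiteDimensional_adjoin fun x _ => Algebra.IsIntegral.isIntegral x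
  have : Algebra.IsSeparable κ L := Algebra.isSeparable_tower_bot_of_isSeparable κ L K
  obtain ⟨θ, hθ⟩ := Field.exists_primitive_element κ L
  have hQ : ∀ i, ∃ Q : κ[X], aeval (θ : K) Q = a i := fun i => by
    have hmem : (⟨a i, IntermediateField.subset_adjoin κ _ (Set.mem_range_self i)⟩ : L) ∈
        IntermediateField.adjoin κ {θ} := hθ ▸ IntermediateField.mem_top
    rw [← IntermediateField.mem_toSubalgebra, IntermediateField.adjoin_simple_toSubalgebra_of_isAlgebraic
      (Algebra.IsAlgebraic.isAlgebraic θ), Algebra.adjoin_singleton_eq_range_aeval] at hmem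
    obtain ⟨Q, hQ⟩ := hmem
    refine ⟨Q, ?_⟩
    have := congrArg (fun x : L => (x : K)) hQ
    simpa [← aeval_algebraMap_apply] using this
  choose Q hQ using hQ
  let g := minpoly κ (θ : K)
  have hgsep : g.Separable := Algebra.IsSeparable.isSeparable κ (θ : K)
  have hg0 : g.Monic := minpoly.monic (Algebra.IsIntegral.isIntegral _)
  obtain ⟨s, hs, hsg⟩ := exists_denom p g
  let σ : κ := algebraMap A κ s
  have hσ : σ ≠ 0 := fun h' => hs (Ideal.algebraMap_residueField_eq_zero.1 h')
  let θ' : K := algebraMap κ K σ * θ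
  let g' := g.scaleRoots σ
  have hlifts : g' ∈ lifts (algebraMap A κ) := by
    rw [lifts_iff_coeff_lifts]
    intro i
    rw [coeff_scaleRoots]
    rcases lt_trichotomy i g.natDegree with hi | rfl | hi
    · obtain ⟨r, hr⟩ := hsg i
      refine ⟨r * s ^ (g.natDegree - i - 1), ?_⟩
      rw [map_mul, map_pow, hr, mul_comm σ, mul_assoc, ← pow_succ',
        show g.natDegree - i - 1 + 1 = g.natDegree - i by omega]
    · exact ⟨1, by simp [hg0.coeff_natDegree]⟩
    · exact ⟨0, by simp [coeff_eq_zero_of_natDegree_lt hi]⟩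
  obtain ⟨f, hf, -, hfm⟩ := lifts_and_degree_eq_and_monic hlifts ((monic_scaleRoots_iff σ).2 hg0)
  have haevalmap : ∀ (F : A[X]) (x : K), aeval x F = aeval x (F.map (algebraMap A κ)) :=
    fun F x => (aeval_map_algebraMap κ x F).symm
  have hfθ : aeval θ' f = 0 := by
    rw [haevalmap, hf]
    exact scaleRoots_aeval_eq_zero (minpoly.aeval κ _)
  have hf'θ : aeval θ' (derivative f) ≠ 0 := by
    intro h0
    rw [haevalmap, ← derivative_map, hf] at h0
    have e : g'.comp (C σ * X) = C σ ^ g.natDegree * g :=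
      (scaleRoots_eval₂_mul (p := g) C (X : κ[X]) σ).trans (by rw [eval₂_C_X])
    have e' := congrArg (fun q => aeval (θ : K) (derivative q)) e
    simp only [derivative_comp, derivative_mul, derivative_C, zero_mul, zero_add, derivative_X,
      mul_one, ← C_pow, map_mul, aeval_C, aeval_comp, aeval_X] at e'
    rw [h0, mul_zero] at e'
    refine mul_ne_zero ?_ (hgsep.aeval_derivative_ne_zero (minpoly.aeval κ _)) e'.symm
    rw [map_pow]
    exact pow_ne_zero _ (by simpa using hσ)
  let Qs : n → κ[X] := fun i => (Q i).comp (C σ⁻¹ * X)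
  have hQs : ∀ i, aeval θ' (Qs i) = a i := fun i => by
    rw [aeval_comp, map_mul, aeval_C, aeval_X, ← mul_assoc, ← map_mul, inv_mul_cancel₀ hσ, map_one,
      one_mul, hQ]
  choose t ht htQ using fun i => exists_denom p (Qs i)
  have hR : ∀ i, ∃ R : A[X], R.map (algebraMap A κ) = C (algebraMap A κ (t i)) * Qs i := fun i => by
    rw [← mem_lifts, lifts_iff_coeff_lifts]
    intro j
    rw [coeff_C_mul]
    exact htQ i j
  choose R hR using hR
  let P : StandardEtalePair A :=
    ⟨f, hfm, derivative f * C (∏ i, t i), C (∏ i, t i), 0, 1, by rw [mul_zero, add_zero, pow_one]⟩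
  have hmap : P.HasMap θ' := by
    refine ⟨hfθ, isUnit_iff_ne_zero.2 ?_⟩
    change aeval θ' (derivative f * C (∏ i, t i)) ≠ 0
    rw [map_mul, aeval_C]
    refine mul_ne_zero hf'θ fun h0 => ?_
    obtain ⟨i, -, hi⟩ := Ideal.IsPrime.prod_mem_iff.1 ((hker _).1 h0)
    exact ht i hi
  let φ := P.lift θ' hmap
  have hu : ∀ i, IsUnit (algebraMap A P.Ring (t i)) := fun i => by
    have h1 : IsUnit (aeval P.X (derivative f * C (∏ i, t i))) := P.hasMap_X.2
    rw [map_mul, aeval_C] at h1
    exact isUnit_of_dvd_unit (map_dvd _ (Finset.dvd_prod_of_mem t (Finset.mem_univ i)))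
      (isUnit_of_mul_isUnit_right h1)
  let b : n → P.Ring := fun i => aeval P.X (R i) * ↑(hu i).unit⁻¹
  have hb : ∀ i, φ (b i) = a i := fun i => by
    have h1 : b i * algebraMap A P.Ring (t i) = aeval P.X (R i) := by
      rw [mul_assoc, (hu i).val_inv_mul, mul_one]
    generalize b i = bi at h1 ⊢
    have h2 := congrArg φ h1
    rw [map_mul, AlgHom.commutes, ← aeval_algHom_apply, StandardEtalePair.lift_X, haevalmap,
      hR i, map_mul, aeval_C, hQs, ← IsScalarTower.algebraMap_apply, mul_comm] at h2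
    exact mul_left_cancel₀ (fun h0 => ht i ((hker _).1 h0)) h2
  exact ⟨P, φ, b, hb⟩

/-- A non-zero polynomial over an algebraically closed field does not vanish at some point with
coordinates in an étale algebra. -/
theorem exists_etale_eval_ne_zero {K : Type u} [Field K] [IsAlgClosed K] (c : A →+* K) {κ : Type u}
    [Finite κ] (h : MvPolynomial κ K) (hh : h ≠ 0) :
    ∃ (P : StandardEtalePair A) (φ : P.Ring →+* K) (b : κ → P.Ring),
      φ.comp (algebraMap A P.Ring) = c ∧ MvPolynomial.eval (fun i => φ (b i)) h ≠ 0 := by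
  let p₀ := RingHom.ker c
  have : p₀.IsPrime := RingHom.ker_isPrime c
  let j : p₀.ResidueField →+* K := Ideal.ResidueField.lift p₀ c le_rfl fun x hx => IsUnit.mk0 _ hx
  let _ : Algebra p₀.ResidueField K := j.toAlgebra
  let σ : SeparableClosure p₀.ResidueField →ₐ[p₀.ResidueField] K := IsAlgClosed.lift
  have := infinite_of_isSepClosed (SeparableClosure p₀.ResidueField)
  obtain ⟨a, ha⟩ : ∃ a : κ → SeparableClosure p₀.ResidueField,
      MvPolynomial.eval (fun i => σ (a i)) h ≠ 0 := by
    by_contra hc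
    push Not at hc
    refine hh (MvPolynomial.funext_set (fun _ => Set.range σ)
      (fun _ => Set.infinite_range_of_injective σ.injective) fun x hx => ?_)
    choose a ha using fun i => hx i (Set.mem_univ i)
    rw [map_zero, show x = fun i => σ (a i) from funext fun i => (ha i).symm]
    exact hc a
  obtain ⟨P, φ, b, hb⟩ := exists_etale_lift p₀ a
  refine ⟨P, σ.toRingHom.comp φ.toRingHom, b, RingHom.ext fun x => ?_, ?_⟩
  · change σ (φ (algebraMap A P.Ring x)) = c x
    rw [AlgHom.commutes, IsScalarTower.algebraMap_apply A p₀.ResidueField (SeparableClosure p₀.ResidueField),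
      AlgHom.commutes]
    exact Ideal.ResidueField.lift_algebraMap p₀ c _ _ x
  · simpa [hb] using ha

/-- An open subset of affine space meets each fibre it touches in a point whose coordinates lie in an
étale algebra over the integers. -/
theorem exists_etale_point {U : Scheme.{u}} {κ : Type u} [Finite κ] (O : (AffineSpace κ U).Opens)
    (o : AffineSpace κ U) (ho : o ∈ O) :
    ∃ (B : CommRingCat.{u}) (G : Spec B ⟶ Spec (CommRingCat.of (MvPolynomial κ (ULift.{u} ℤ))))
      (o' : AffineSpace κ U), Etale (terminal.from (Spec B)) ∧ o' ∈ O ∧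
      (AffineSpace κ U ↘ U) o' = (AffineSpace κ U ↘ U) o ∧
      AffineSpace.toSpecMvPoly κ U o' ∈ Set.range G := by
  classical
  let u₀ := (AffineSpace κ U ↘ U) o
  obtain ⟨V, hV, hmV, -⟩ := exists_isAffineOpen_mem_and_subset (x := u₀) (U := (⊤ : U.Opens)) trivial
  let L := (AffineSpace.SpecIso κ Γ(U, V)).inv ≫ AffineSpace.map κ hV.fromSpec
  have hL : L ≫ (AffineSpace κ U ↘ U) = Spec.map (CommRingCat.ofHom MvPolynomial.C) ≫ hV.fromSpec := by
    simp [L]
  obtain ⟨o₁, ho₁⟩ : o ∈ Set.range L := by
    obtain ⟨z, hz, -⟩ := Scheme.exists_preimage_of_isPullback (AffineSpace.isPullback_map hV.fromSpec)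
      o (hV.primeIdealOf ⟨u₀, hmV⟩) (hV.fromSpec_primeIdealOf ⟨u₀, hmV⟩).symm
    refine ⟨(AffineSpace.SpecIso κ Γ(U, V)).hom z, ?_⟩
    change L ((AffineSpace.SpecIso κ Γ(U, V)).hom z) = o
    rw [← Scheme.Hom.comp_apply, Iso.hom_inv_id_assoc, hz]
  obtain ⟨_, ⟨h, rfl⟩, hmem, hsub⟩ :=
    PrimeSpectrum.isTopologicalBasis_basic_opens.exists_subset_of_mem_open
      (show o₁ ∈ (L ⁻¹ᵁ O : Set _) from (show L o₁ ∈ O from ho₁ ▸ ho)) (L ⁻¹ᵁ O).isOpen
  let pv : PrimeSpectrum Γ(U, V) := PrimeSpectrum.comap MvPolynomial.C o₁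
  obtain ⟨m, hm⟩ : ∃ m, h.coeff m ∉ pv.asIdeal := by
    by_contra hc
    push Not at hc
    exact hmem (Ideal.map_comap_le (MvPolynomial.mem_map_C_iff.2 hc))
  let k := pv.asIdeal.ResidueField
  let K := AlgebraicClosure k
  let ψ : Γ(U, V) →+* K := algebraMap Γ(U, V) K
  have hψ : RingHom.ker ψ = pv.asIdeal := by
    ext x
    rw [RingHom.mem_ker, show ψ x = algebraMap k K (algebraMap Γ(U, V) k x) from
      IsScalarTower.algebraMap_apply Γ(U, V) k K x, map_eq_zero, Ideal.algebraMap_residueField_eq_zero]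
  let c : (ULift.{u} ℤ) →+* K := (Int.castRingHom K).comp ULift.ringEquiv.toRingHom
  have hh : MvPolynomial.map ψ h ≠ 0 := fun h0 => by
    have := congrArg (MvPolynomial.coeff m) h0
    rw [MvPolynomial.coeff_map, MvPolynomial.coeff_zero, ← RingHom.mem_ker, hψ] at this
    exact hm this
  obtain ⟨P, φ, b, hφc, ha⟩ := exists_etale_eval_ne_zero c _ hh
  rw [MvPolynomial.eval_map] at ha
  let G : CommRingCat.of (MvPolynomial κ (ULift.{u} ℤ)) ⟶ CommRingCat.of P.Ring :=
    CommRingCat.ofHom (MvPolynomial.aeval b).toRingHom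
  let E : MvPolynomial κ Γ(U, V) →+* K := MvPolynomial.eval₂Hom ψ fun i => φ (b i)
  let o₂ : Spec (CommRingCat.of (MvPolynomial κ Γ(U, V))) := ⟨RingHom.ker E, RingHom.ker_isPrime E⟩
  refine ⟨CommRingCat.of P.Ring, Spec.map G, L o₂, ?_, hsub (show o₂ ∈ PrimeSpectrum.basicOpen h from ha),
    ?_, ⟨RingHom.ker φ, RingHom.ker_isPrime φ⟩, ?_⟩
  · have : Etale (Spec.map (CommRingCat.ofHom (algebraMap (ULift.{u} ℤ) P.Ring))) :=
      (HasRingHomProperty.Spec_iff (P := @Etale)).2 (RingHom.etale_algebraMap.2 inferInstance)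
    have : IsIso (terminal.from (Spec (CommRingCat.of (ULift.{u} ℤ)))) := (specULiftZIsTerminal.uniqueUpToIso
      terminalIsTerminal).isIso_hom
    rw [Subsingleton.elim (terminal.from (Spec (CommRingCat.of P.Ring)))
      (Spec.map (CommRingCat.ofHom (algebraMap (ULift.{u} ℤ) P.Ring)) ≫ terminal.from (Spec (CommRingCat.of (ULift.{u} ℤ))))]
    infer_instance
  · have hpt : Spec.map (CommRingCat.ofHom (MvPolynomial.C (σ := κ) (R := Γ(U, V)))) o₂ = pv := by
      refine PrimeSpectrum.ext ?_
      change (RingHom.ker E).comap MvPolynomial.C = _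
      rw [RingHom.comap_ker, MvPolynomial.eval₂Hom_comp_C, hψ]
    rw [← Scheme.Hom.comp_apply, hL, Scheme.Hom.comp_apply, hpt]
    change hV.fromSpec (Spec.map (CommRingCat.ofHom MvPolynomial.C) o₁) = _
    rw [← Scheme.Hom.comp_apply, ← hL, Scheme.Hom.comp_apply, ho₁]
  · let q : CommRingCat.of (MvPolynomial κ (ULift.{u} ℤ)) ⟶ CommRingCat.of (MvPolynomial κ Γ(U, V)) :=
      CommRingCat.ofHom (MvPolynomial.map ((Int.castRingHom Γ(U, V)).comp ULift.ringEquiv.toRingHom))
    have hq : L ≫ AffineSpace.toSpecMvPoly κ U = Spec.map q := by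
      apply (AffineSpace.toSpecMvPolyIntEquiv κ).injective
      ext j
      rw [AffineSpace.toSpecMvPolyIntEquiv_comp]
      change L.appTop (AffineSpace.coord U j) = (Spec.map q).appTop ((Scheme.ΓSpecIso _).inv (.X j))
      conv_rhs => rw [← CommRingCat.comp_apply, ← Scheme.ΓSpecIso_inv_naturality, CommRingCat.comp_apply]
      rw [Scheme.Hom.comp_appTop, CommRingCat.comp_apply, AffineSpace.map_appTop_coord,
        AffineSpace.SpecIso_inv_appTop_coord]
      congr 1
      simp [q]
    rw [← Scheme.Hom.comp_apply, hq]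
    refine PrimeSpectrum.ext ?_
    change (RingHom.ker φ).comap (MvPolynomial.aeval b).toRingHom =
      (RingHom.ker E).comap (MvPolynomial.map ((Int.castRingHom Γ(U, V)).comp ULift.ringEquiv.toRingHom))
    rw [RingHom.comap_ker, RingHom.comap_ker]
    congr 1
    apply MvPolynomial.ringHom_ext
    · intro z
      have h1 := RingHom.congr_fun hφc z
      obtain ⟨z⟩ := z
      simp only [RingHom.comp_apply] at h1 ⊢
      simp [E, h1, c]
    · intro i
      simp [E]

end Groth.Agent.Lib.Slicing.Rational
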