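import Mathlib.RingTheory.Smooth.Basic
import Mathlib.RingTheory.Smooth.Locus
import Mathlib.RingTheory.Etale.Locus
import Mathlib.RingTheory.Kaehler.JacobiZariski
import Mathlib.RingTheory.Kaehler.Polynomial
import Mathlib.RingTheory.Unramified.Basic
import Mathlib.RingTheory.LocalRing.Module
import Mathlib.RingTheory.RingHom.Etale

/-!
# Étale coordinates pulled back through an unramified map

* `exists_etale_coords`: if `C` is smooth over `B`, unramified over a `B`-algebra `A` generated by a
  family `g`, then near every prime of `C` finitely many of the `g i` are étale coordinates.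
-/

set_option autoImplicit false

universe u

open TensorProduct KaehlerDifferential

namespace Groth.Agent.Lib.Slicing.Alg

variable {B A C : Type u} [CommRing B] [CommRing A] [CommRing C] [Algebra B A] [Algebra A C]
  [Algebra B C] [IsScalarTower B A C]

theorem span_D_eq_top [Algebra.FormallyUnramified A C] {ι : Type u} (g : ι → A)
    (hg : Algebra.adjoin B (Set.range g) = ⊤) :
    Submodule.span C (Set.range fun i => D B C (algebraMap A C (g i))) = ⊤ := by
  set M := Submodule.span C (Set.range fun i => D B C (algebraMap A C (g i)))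
  let D₁ : Derivation B C (Ω[C⁄B] ⧸ M) := M.mkQ.compDer (D B C)
  have h0 : ∀ a : A, D₁ (algebraMap A C a) = 0 := fun a => by
    have key : Set.EqOn (D₁.compAlgebraMap A) (0 : Derivation B A (Ω[C⁄B] ⧸ M))
        (Algebra.adjoin B (Set.range g) : Set A) := Derivation.eqOn_adjoin (by
      rintro _ ⟨i, rfl⟩
      exact (Submodule.Quotient.mk_eq_zero M).2 (Submodule.subset_span ⟨i, rfl⟩))
    exact key (by rw [hg]; exact Algebra.mem_top)
  let D₂ : Derivation A C (Ω[C⁄B] ⧸ M) := Derivation.mk'
    { toFun := D₁
      map_add' := map_add D₁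
      map_smul' := fun a c => by
        rw [RingHom.id_apply, Algebra.smul_def, Derivation.leibniz, h0, smul_zero, add_zero,
          IsScalarTower.algebraMap_smul] }
    fun a b => D₁.leibniz a b
  have hD : ∀ c, D₁ c = 0 := fun c => by
    have := Derivation.congr_fun (D₂.liftKaehlerDifferential_comp) c
    change D₂ c = 0
    rw [← this, LinearMap.compDer, LinearMap.coe_mk]
    change D₂.liftKaehlerDifferential (D A C c) = 0
    rw [Subsingleton.elim (D A C c) 0, map_zero]
  rw [← top_le_iff, ← span_range_derivation, Submodule.span_le]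
  rintro _ ⟨c, rfl⟩
  exact (Submodule.Quotient.mk_eq_zero M).1 (hD c)

theorem formallyEtale_of_bijective (k P S : Type u) [CommRing k] [CommRing P] [CommRing S]
    [Algebra k P] [Algebra P S] [Algebra k S] [IsScalarTower k P S] [Algebra.FormallySmooth k S]
    (h : Function.Bijective (mapBaseChange k P S)) : Algebra.FormallyEtale P S := by
  refine ⟨?_, ?_⟩
  · refine ⟨fun x y => ?_⟩
    have key : ∀ x : Ω[S⁄P], x = 0 := fun x => by
      obtain ⟨y, rfl⟩ := map_surjective k P S x
      obtain ⟨z, rfl⟩ := h.2 y
      exact (exact_mapBaseChange_map k P S).apply_apply_eq_zero z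
    rw [key x, key y]
  · have h2 : ∀ x : Algebra.H1Cotangent P S, x = 0 := fun x => by
      have h0 : Algebra.H1Cotangent.δ k P S x = 0 :=
        h.1 (by rw [(Algebra.H1Cotangent.exact_δ_mapBaseChange k P S).apply_apply_eq_zero, map_zero])
      obtain ⟨y, rfl⟩ := (Algebra.H1Cotangent.exact_map_δ k P S x).1 h0
      rw [Subsingleton.elim y 0, map_zero]
    exact ⟨fun x y => by rw [h2 x, h2 y]⟩

/-- Near a prime, some of the `g i` are étale coordinates of `C` over `B`. -/
theorem exists_etale_coords [Algebra.Smooth B C] [Algebra.FormallyUnramified A C] {ι : Type u}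
    (g : ι → A) (hg : Algebra.adjoin B (Set.range g) = ⊤) (q : Ideal C) [q.IsPrime] :
    ∃ (κ : Type u) (_ : Finite κ) (a : κ → ι) (f : C), f ∉ q ∧
      ((algebraMap C (Localization.Away f)).comp
        (MvPolynomial.aeval (R := B) fun i => algebraMap A C (g (a i))).toRingHom).Etale := by
  let S := Localization.AtPrime q
  have : Algebra.FormallyEtale C S := .of_isLocalization q.primeCompl
  have : Algebra.FormallyUnramified A S := .comp A C S
  have : Algebra.FormallySmooth B S := .comp B C S
  have : Algebra.EssFiniteType B S := .comp B C S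
  have : Module.FinitePresentation S Ω[S⁄B] := Module.finitePresentation_of_projective S _
  obtain ⟨κ, a, b, hb⟩ := Module.exists_basis_of_span_of_flat
    (fun i => D B S (algebraMap A S (g i))) (span_D_eq_top g hg)
  have : Finite κ := Module.Finite.finite_basis b
  let v : κ → C := fun i => algebraMap A C (g (a i))
  let _ : Algebra (MvPolynomial κ B) C := (MvPolynomial.aeval v).toRingHom.toAlgebra
  have : IsScalarTower B (MvPolynomial κ B) C :=
    IsScalarTower.of_algebraMap_eq fun r => (MvPolynomial.aeval_C v r).symm
  have : IsScalarTower B (MvPolynomial κ B) S := IsScalarTower.of_algebraMap_eq fun r => by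
    rw [IsScalarTower.algebraMap_apply B C S, IsScalarTower.algebraMap_apply (MvPolynomial κ B) C S]
    exact congrArg _ (MvPolynomial.aeval_C v r).symm
  have hbij : Function.Bijective (mapBaseChange B (MvPolynomial κ B) S) := by
    let b₁ : Module.Basis κ S (S ⊗[MvPolynomial κ B] Ω[MvPolynomial κ B⁄B]) :=
      (mvPolynomialBasis B κ).baseChange S
    let E := b₁.equiv b (Equiv.refl κ)
    have : (mapBaseChange B (MvPolynomial κ B) S) = E.toLinearMap := b₁.ext fun i => by
      rw [LinearEquiv.coe_coe, Module.Basis.equiv_apply, hb, Module.Basis.baseChange_apply,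
        mapBaseChange_tmul, one_smul, mvPolynomialBasis_apply, map_D,
        IsScalarTower.algebraMap_apply (MvPolynomial κ B) C S, IsScalarTower.algebraMap_apply A C S]
      exact congrArg (fun x => D B S (algebraMap C S x)) (MvPolynomial.aeval_X v i)
    rw [this]
    exact E.bijective
  have : Algebra.IsEtaleAt (MvPolynomial κ B) q :=
    formallyEtale_of_bijective B (MvPolynomial κ B) S hbij
  have : Algebra.FinitePresentation (MvPolynomial κ B) C :=
    Algebra.FinitePresentation.of_restrict_scalars_finitePresentation B (MvPolynomial κ B) C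
  obtain ⟨f, hf, hf'⟩ := Algebra.exists_etale_of_isEtaleAt (R := MvPolynomial κ B) q
  exact ⟨κ, inferInstance, a, f, hf, RingHom.etale_algebraMap.2 hf'⟩

end Groth.Agent.Lib.Slicing.Alg
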